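import Groth.Agent.Old.H24.SecondSection
import Groth.Agent.Old.H24.LinAlg
import Groth.Agent.CurvesB.CurveRR
import Groth.Agent.CurvesB.UnitCoh
import Groth.Agent.CycB.ModStalk
import Groth.Agent.VarietyA.DegRank
import Groth.Agent.Ega2.QCohLocal
import Groth.Agent.Ega2.TensMon
import Groth.Agent.S0002
import Groth.Agent.S2329

/-!
# Linear series on a proper curve: `h^0(L) ≤ deg L + 1`, with equality for positive degree only in genus zero
-/

set_option autoImplicit false
universe u
open CategoryTheory CategoryTheory.Limits AlgebraicGeometry Opposite TopologicalSpace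
open Groth.Agent.Fdesc.LocGen Groth.Agent.CurvesB.RankOne Groth.Agent.Old.H24.MulHom
open Groth.Agent.CurvesB.InvEmb Groth.Agent.CurvesB.CurveRR Groth.Agent.CurvesB.HZero
open Groth.Agent.VarietyA.EulerLES

namespace Groth.Agent.Old.H24.LinearSeries

variable (k : Type u) [Field k] {X : Scheme.{u}} [X.Over (Spec (CommRingCat.of k))]

theorem finrank_stalk {M : X.Modules} (hM : PicF.IsInvertible M) (y : X) :
    Module.finrank (X.presheaf.stalk y) (M.presheaf.stalk y) = 1 := by
  obtain ⟨t, ht⟩ := CycB.ModStalk.exists_isGen hM y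
  have e : X.presheaf.stalk y ≃ₗ[X.presheaf.stalk y] M.presheaf.stalk y :=
    LinearEquiv.ofBijective (LinearMap.toSpanSingleton _ _ t) ht
  rw [← e.finrank_eq, Module.finrank_self]

variable [IsIntegral X] [IsProper (X ↘ (Spec (CommRingCat.of k)))]

theorem deg_tensor (hdim : topologicalKrullDim X ≤ 1)
    {M N : X.Modules} (hM : PicF.IsInvertible M) (hN : PicF.IsInvertible N) :
    Curv2.deg k X (CohB1.tensorMod M N) 1 = Curv2.deg k X M 1 + Curv2.deg k X N 1 := by
  have h : Curv2.euler k X (CohB1.tensorMod M N) =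
      (Module.finrank (X.presheaf.stalk (genericPoint X)) (N.presheaf.stalk (genericPoint X)) : ℤ) *
        Curv2.deg k X M 1 + (1 : ℕ) * Curv2.euler k X N :=
    Groth.Agent.VarietyA.DegRank.euler_tensor_curve k hdim 1 M
    (Ega2.QCohLocal.isFinLocFreeOfRank_one_iff.2 hM) N (Groth.Agent.S2329.isCoh_of_isInvertible hN)
  rw [finrank_stalk hN] at h
  have h2 : Curv2.deg k X (CohB1.tensorMod M N) 1 =
    Curv2.euler k X (CohB1.tensorMod M N) - Curv2.euler k X (Coh.structureModule X) := by
    simp [Curv2.deg]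
  have h3 : Curv2.deg k X N 1 =
    Curv2.euler k X N - Curv2.euler k X (Coh.structureModule X) := by
    simp [Curv2.deg]
  rw [h2, h, h3]
  push_cast
  ring

theorem deg_tensorPow (hdim : topologicalKrullDim X ≤ 1) {L : X.Modules}
    (hL : PicF.IsInvertible L) (n : ℕ) :
    Curv2.deg k X (CohB1.tensorPow L n) 1 = n * Curv2.deg k X L 1 := by
  induction n with
  | zero =>
    change Curv2.deg k X (Coh.structureModule X) 1 = _
    simp [Curv2.deg]
  | succ n ih =>
    change Curv2.deg k X (CohB1.tensorMod (CohB1.tensorPow L n) L) 1 = _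
    rw [deg_tensor k hdim (isInvertible_tensorPow hL n) hL, ih]
    push_cast
    ring

omit [IsIntegral X] in
theorem finite_H {M : X.Modules} (hM : PicF.IsInvertible M) (n : ℕ) :
    Module.Finite k (Coh.HH X M n) :=
  have := isNoetherian_of_proper k X
  Groth.Agent.S0002.result k X _ (Groth.Agent.S2329.isCoh_of_isInvertible hM) n

omit [IsIntegral X] in
/-- The base-point-free pencil trick. -/
theorem pencil {L : X.Modules} (hL : PicF.IsInvertible L) {s t : Γ(L, ⊤)} (h : Covers s t) (n : ℕ) :
    2 * Module.finrank k (Coh.HH X (CohB1.tensorPow L (n + 1)) 0) ≤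
      Module.finrank k (Coh.HH X (CohB1.tensorPow L n) 0) +
        Module.finrank k (Coh.HH X (CohB1.tensorPow L (n + 2)) 0) := by
  have f0 := finite_H k (isInvertible_tensorPow hL n) 0
  have f1 := finite_H k (isInvertible_tensorPow hL (n + 1)) 0
  have f2 := finite_H k (isInvertible_tensorPow hL (n + 2)) 0
  have key : ∀ (F : X.Modules) (m : Γ(L, ⊤)) (x : Coh.HH X F 0),
      equivAdd (CohB1.tensorMod F L) (mapA k (mulHom F m) 0 x) = tmul (equivAdd F x) m := by
    intro F m x
    refine (equivAdd_map (mulHom F m) x).trans ?_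
    rw [mulHom_app, res_refl]
  refine LinAlg.two_mul_le (k := k)
    (mapA k (mulHom (CohB1.tensorPow L n) s) 0) (mapA k (mulHom (CohB1.tensorPow L n) t) 0)
    (mapA k (mulHom (CohB1.tensorPow L (n + 1)) t) 0)
    (mapA k (mulHom (CohB1.tensorPow L (n + 1)) s) 0) fun a b hab => ?_
  have h1 := congrArg (equivAdd (CohB1.tensorMod (CohB1.tensorPow L (n + 1)) L)) hab
  have h2 := ((key (CohB1.tensorPow L (n + 1)) t a).symm.trans h1).trans
    (key (CohB1.tensorPow L (n + 1)) s b)
  obtain ⟨c, hc1, hc2⟩ := h.exists_eq (F := CohB1.tensorPow L n) hL _ _ h2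
  refine ⟨(equivAdd (CohB1.tensorPow L n)).symm c, ?_, ?_⟩
  · apply (equivAdd (CohB1.tensorMod (CohB1.tensorPow L n) L)).injective
    refine (key _ _ _).trans ?_
    rw [AddEquiv.apply_symm_apply]
    exact hc1
  · apply (equivAdd (CohB1.tensorMod (CohB1.tensorPow L n) L)).injective
    refine (key _ _ _).trans ?_
    rw [AddEquiv.apply_symm_apply]
    exact hc2

theorem genus_eq_zero (hdim : topologicalKrullDim X ≤ 1)
    (h0 : Module.finrank k (Coh.HH X (Coh.structureModule X) 0) = 1)
    {L : X.Modules} (hL : PicF.IsInvertible L) {s t : Γ(L, ⊤)} (h : Covers s t)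
    (d : ℕ) (hd : 0 < d) (hdeg : Curv2.deg k X L 1 = d) (hL0 : Module.finrank k (Coh.HH X L 0) = d + 1) :
    Curv2.genus k X = 0 := by
  have := isNoetherian_of_proper k X
  let a : ℕ → ℕ := fun n => Module.finrank k (Coh.HH X (CohB1.tensorPow L n) 0)
  have ha0 : a 0 = 1 := h0
  have ha1 : a 1 = d + 1 := by
    rw [← hL0]
    exact (equivA k (Groth.Agent.Ega2.Tens.lunit L) 0).finrank_eq
  have hgr : ∀ n, 1 + n * d ≤ a n := by
    intro n
    have := LinAlg.growth' a d (by omega) (fun n => pencil k hL h n) n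
    omega
  set g := Curv2.genus k X with hg
  have hn := hgr g
  have fO := finite_H k (X := X) isInvertible_structureModule 1
  have hs : Subsingleton (Coh.HH X (CohB1.tensorPow L g) 1) := by
    rw [← not_nontrivial_iff_subsingleton]
    intro h1
    have h2 := finrank_H0_le_genus k hdim
      (locEmb_of_isInvertible (isInvertible_tensorPow hL g)) h1
    have h3 : g * 1 ≤ g * d := Nat.mul_le_mul_left g hd
    have h4 : a g ≤ g := h2
    omega
  have hdg := deg_eq k X hdim (CohB1.tensorPow L g)
  rw [deg_tensorPow k hdim hL, hdeg, Module.finrank_zero_of_subsingleton (M := Coh.HH X (CohB1.tensorPow L g) 1), h0] at hdg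
  have h5 : ((1 + g * d : ℕ) : ℤ) ≤ (a g : ℤ) := by exact_mod_cast hn
  have h6 : ((g : ℕ) : ℤ) * (d : ℤ) = (a g : ℤ) - 0 - (1 - (g : ℤ)) := by
    simpa using hdg
  push_cast at h5
  have : (g : ℤ) ≤ 0 := by linarith
  exact_mod_cast le_antisymm this (Int.natCast_nonneg g)

theorem main (hdim : topologicalKrullDim X ≤ 1)
    (h0 : Module.finrank k (Coh.HH X (Coh.structureModule X) 0) = 1)
    (L : X.Modules) (hL : PicF.IsInvertible L) (hs : Nontrivial (Coh.HH X L 0)) :
    (Module.finrank k (Coh.HH X L 0) : ℤ) ≤ Curv2.deg k X L 1 + 1 ∧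
      ((Module.finrank k (Coh.HH X L 0) : ℤ) = Curv2.deg k X L 1 + 1 → 0 < Curv2.deg k X L 1 →
        Curv2.genus k X = 0) := by
  have := isNoetherian_of_proper k X
  obtain ⟨x, hx⟩ := exists_ne (0 : Coh.HH X L 0)
  let m : Γ(L, ⊤) := equivAdd L x
  have hm : m ≠ 0 := (map_ne_zero_iff _ (equivAdd L).injective).2 hx
  let s : Coh.structureModule X ⟶ L := Groth.Agent.CurvesB.Pairing.secHom L m
  have hs0 : s ≠ 0 := Groth.Agent.CurvesB.Pairing.secHom_ne_zero hm
  have hmono : Mono s := mono_of_ne_zero (locEmb_of_isInvertible hL) s hs0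
  let S : ShortComplex X.Modules := ShortComplex.mk s (cokernel.π s) (cokernel.condition s)
  have hS : S.ShortExact :=
    { exact := ShortComplex.exact_of_g_is_cokernel _ (cokernelIsCokernel s)
      mono_f := hmono
      epi_g := inferInstanceAs (Epi (cokernel.π s)) }
  have hT : IsTors (cokernel s) :=
    isTors_of_epi (locEmb_of_isInvertible hL) s hs0 (cokernel.π s) (cokernel.condition s)
  have hT1 : Subsingleton (Coh.HH X S.X₃ 1) := hT.subsingleton_HH hdim 0
  have fO0 : Module.Finite k (Coh.HH X S.X₁ 0) := finite_H k isInvertible_structureModule 0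
  have fO1 : Module.Finite k (Coh.HH X S.X₁ 1) := finite_H k isInvertible_structureModule 1
  have fL0 : Module.Finite k (Coh.HH X S.X₂ 0) := finite_H k hL 0
  have fQ0 : Module.Finite k (Coh.HH X S.X₃ 0) := by
    have e := (exactA₃ k S hS 0 1 rfl)
    have : Module.Finite k (LinearMap.range (deltaA k S hS 0 1 rfl)) := inferInstance
    refine Module.Finite.of_exact (f := mapA k S.g 0) (g := (deltaA k S hS 0 1 rfl).rangeRestrict) ?_
      (LinearMap.surjective_rangeRestrict _)
    intro y
    rw [← e y]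
    exact ⟨fun h => congrArg Subtype.val h, fun h => Subtype.ext h⟩
  have hcount := finrank_of_shortExact k S hS hT1
  have hdeg := deg_eq k X hdim L
  obtain ⟨hle, hsurj⟩ := LinAlg.le_and_surjective (mapA k S.f 0) (mapA k S.g 0)
    (injectiveA₀ k S hS) (exactA₂ k S hS 0)
  have e1 : Module.finrank k (Coh.HH X S.X₁ 0) = 1 := h0
  have e1' : Module.finrank k (Coh.HH X S.X₁ 1) = Curv2.genus k X := rfl
  have e2 : Module.finrank k (Coh.HH X S.X₂ 0) = Module.finrank k (Coh.HH X L 0) := rfl
  have e2' : Module.finrank k (Coh.HH X S.X₂ 1) = Module.finrank k (Coh.HH X L 1) := rfl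
  rw [e1, e1', e2, e2'] at hcount
  rw [h0] at hdeg
  rw [e1, e2] at hle
  have hQ : (Module.finrank k (Coh.HH X S.X₃ 0) : ℤ) = Curv2.deg k X L 1 := by
    rw [hdeg]
    push_cast
    omega
  refine ⟨by rw [← hQ]; exact_mod_cast (by omega), fun heq hpos => ?_⟩
  have heq' : Module.finrank k (Coh.HH X S.X₂ 0) =
      Module.finrank k (Coh.HH X S.X₁ 0) + Module.finrank k (Coh.HH X S.X₃ 0) := by
    rw [e1, e2]
    rw [← hQ] at heq
    omega
  have hsj := hsurj heq'
  have hsj' : Function.Surjective ((cokernel.π s).app ⊤) := by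
    intro c
    obtain ⟨y, hy⟩ := hsj ((equivAdd (cokernel s)).symm c)
    refine ⟨equivAdd L y, ?_⟩
    rw [← equivAdd_map]
    have h1 := congrArg (equivAdd (cokernel s)) hy
    rw [AddEquiv.apply_symm_apply] at h1
    exact h1
  obtain ⟨t, ht⟩ := SecondSection.exists_covers hdim hL s hs0 (cokernel.π s) (cokernel.condition s)
    hS.exact hsj'
  refine genus_eq_zero k hdim h0 hL ht (Module.finrank k (Coh.HH X S.X₃ 0)) ?_ hQ.symm ?_
  · rw [← hQ] at hpos
    exact_mod_cast hpos
  · omega

end Groth.Agent.Old.H24.LinearSeries
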